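import Groth.Prelude.Def_KRR
import Groth.Agent.Divis.RegImm
import Groth.Agent.CohqB.ProjBC
import Groth.Agent.CohqA.AffineBaseChange
import Groth.Agent.VarietyB.ProjForm
import Groth.Agent.Sga67.TwistOver
import Groth.Agent.Sga5.ProjSmooth
import Groth.Agent.Dcoh.FinLocFree

/-!
# The base change square of `P^n` over a closed immersion

For `i : X ⟶ Y`, `j = KRR.projSpaceMap n i : P^n_X ⟶ P^n_Y`:
* `isPullback_projSpaceMap`: the square with the two projections is cartesian;
* `isRegularClosedImmersion_projSpaceMap`: `j` is a regular closed immersion if `i` is one;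
* `nonempty_pull_twistOver`: `j^* O(d) ≅ O(d)`;
* `nonempty_pull_push`: `q^* i_* E ≅ j_* p^* E` for `i` affine and `E` quasi-coherent;
* `nonempty_twF_push`: `O(d) ⊗ j_* G ≅ j_* (O(d) ⊗ G)`;
* `nonempty_twF_pull_push`: `O(d) ⊗ q^* i_* E ≅ j_* (O(d) ⊗ p^* E)`.
-/

set_option autoImplicit false
universe u

open CategoryTheory CategoryTheory.Limits AlgebraicGeometry

namespace Groth.Agent.Krr.H465.ProjBase

open Groth.Agent.CohqB.ProjBC

variable (n : ℕ) {X Y : Scheme.{u}} (i : X ⟶ Y)

theorem projSpaceMap_eq_overMap : KRR.projSpaceMap n i = overMap n i := by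
  refine pullback.hom_ext ?_ ?_
  · refine (pullback.lift_fst _ _ _).trans ?_
    rw [Category.comp_id]
    exact (overMap_fstZ n i).symm
  · refine (pullback.lift_snd _ _ _).trans ?_
    exact (overMap_toBase n i).symm

@[reassoc]
theorem projSpaceMap_pr : KRR.projSpaceMap n i ≫ KRR.pr n Y = KRR.pr n X ≫ i := by
  rw [projSpaceMap_eq_overMap]
  exact overMap_toBase n i

@[reassoc]
theorem projSpaceMap_fstZ : KRR.projSpaceMap n i ≫ fstZ n Y = fstZ n X := by
  rw [projSpaceMap_eq_overMap]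
  exact overMap_fstZ n i

theorem isPullback_projSpaceMap :
    IsPullback (KRR.projSpaceMap n i) (KRR.pr n X) (KRR.pr n Y) i := by
  rw [projSpaceMap_eq_overMap]
  exact isPullback_overMap n i

theorem flat_pr (S : Scheme.{u}) : Flat (KRR.pr n S) := by
  have h1 : Smooth (CohB1.ProjSpace.toSpec n (ULift.{u} ℤ)) := by
    have := Groth.Agent.Sga5.ProjSmooth.smooth_toSpec n (ULift.{u} ℤ)
    exact SmoothOfRelativeDimension.smooth n _
  have h2 : Flat (CohB1.ProjSpace.toSpec n (ULift.{u} ℤ)) := inferInstance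
  exact MorphismProperty.of_isPullback (P := @Flat) (isPullback_fstZ n S) h2

theorem isRegularClosedImmersion_projSpaceMap (hi : Mor2.IsRegularClosedImmersion i) :
    Mor2.IsRegularClosedImmersion (KRR.projSpaceMap n i) := by
  have := flat_pr n Y
  exact Groth.Agent.Divis.RegImm.isRegularClosedImmersion_of_isPullback
    (isPullback_projSpaceMap n i) hi

/-- `j^* O(d) ≅ O(d)` for `j : P^n_X ⟶ P^n_Y`. -/
noncomputable def pullTwistOverIso (d : ℤ) :
    (Scheme.Modules.pullback (KRR.projSpaceMap n i)).obj (Twist.twistOver n Y d) ≅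
      Twist.twistOver n X d :=
  (Scheme.Modules.pullbackComp (KRR.projSpaceMap n i) (fstZ n Y)).app _ ≪≫
    (Scheme.Modules.pullbackCongr (projSpaceMap_fstZ n i)).app _

/-- `O(d)` is finite locally free. -/
theorem isFinLocFree_twistOver (S : Scheme.{u}) (d : ℤ) :
    FlatMod.IsFinLocFree (Twist.twistOver n S d) := by
  intro x
  obtain ⟨U, hU, ⟨e⟩⟩ := Groth.Agent.Ega3B.ProjFrame.isInvertible_twistOver (Y := S) n d x
  exact ⟨U, 1, hU, ⟨e ≪≫ (coproductUniqueIso
    (fun _ : Fin 1 => Coh.structureModule (U : Scheme.{u}))).symm⟩⟩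

/-- `O(d) ⊗ j_* G ≅ j_* (O(d) ⊗ G)`. -/
noncomputable def twFPushIso (d : ℤ) (G : (KRR.PY n X).Modules) :
    KRR.twF n Y d ((Scheme.Modules.pushforward (KRR.projSpaceMap n i)).obj G) ≅
      (Scheme.Modules.pushforward (KRR.projSpaceMap n i)).obj (KRR.twF n X d G) :=
  Groth.Agent.VarietyB.ProjForm.projIso (KRR.projSpaceMap n i)
    (Groth.Agent.VarietyB.TensCoh.HasBases.of_isFinLocFree (isFinLocFree_twistOver n Y d)) G ≪≫
  (Scheme.Modules.pushforward (KRR.projSpaceMap n i)).mapIso
    (Groth.Agent.Ega2.Tens.mapTIso (pullTwistOverIso n i d) (Iso.refl G))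

/-- `q^* i_* E ≅ j_* p^* E`. -/
theorem nonempty_pull_push [IsAffineHom i] (E : X.Modules) (hE : Coh.IsQCoh E) :
    Nonempty ((Scheme.Modules.pullback (KRR.pr n Y)).obj ((Scheme.Modules.pushforward i).obj E) ≅
      (Scheme.Modules.pushforward (KRR.projSpaceMap n i)).obj
        ((Scheme.Modules.pullback (KRR.pr n X)).obj E)) := by
  have := hE
  exact Groth.Agent.CohqA.AffineBaseChange.nonempty_iso (isPullback_projSpaceMap n i).flip E

/-- `O(d) ⊗ q^* i_* E ≅ j_* (O(d) ⊗ p^* E)`. -/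
theorem nonempty_twF_pull_push [IsAffineHom i] (E : X.Modules) (hE : Coh.IsQCoh E) (d : ℤ) :
    Nonempty (KRR.twF n Y d ((Scheme.Modules.pullback (KRR.pr n Y)).obj
        ((Scheme.Modules.pushforward i).obj E)) ≅
      (Scheme.Modules.pushforward (KRR.projSpaceMap n i)).obj
        (KRR.twF n X d ((Scheme.Modules.pullback (KRR.pr n X)).obj E))) := by
  obtain ⟨e⟩ := nonempty_pull_push n i E hE
  exact ⟨((DCoh.tensorBi (X := KRR.PY n Y)).obj (Twist.twistOver n Y d)).mapIso e ≪≫
    twFPushIso n i d _⟩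

end Groth.Agent.Krr.H465.ProjBase
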