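import Groth.Prelude.Def_KRR
import Groth.Agent.S3197
import Groth.Agent.Krr.H465.ProjBase

/-!
# Generators of `K(P^n_S)`

* `hom_ext_proj`: two additive maps out of `SGA6.Kvb (P^n_S)` (`S` quasi-compact) agreeing on the classes of
  `O(d) ⊗ p^* E`, `0 ≤ d ≤ n`, `E` finite locally free on `S`, are equal.
* `hom_ext_model`: the same for additive maps out of a model `K` of `K(P^n_S)`.
-/

set_option autoImplicit false
universe w v u

open CategoryTheory CategoryTheory.Limits AlgebraicGeometry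

namespace Groth.Agent.Krr.H465.Gen

open Groth.Agent.Sga67 Groth.Agent.Sga67.TwistOver

theorem mapSub_clSub' {A : Type u} [Category.{v} A] [Abelian A] {B : Type u} [Category.{v} B] [Abelian B]
    (F : A ⥤ B) [F.Additive] [PreservesFiniteLimits F] [PreservesFiniteColimits F]
    (P : ObjectProperty A) (Q : ObjectProperty B) (h : ∀ X, P X → Q (F.obj X)) {X : A} (hX : P X) :
    SGA6.mapSub F P Q h (KZero.clSub P X) = KZero.clSub Q (F.obj X) := by
  rw [K0Basic.clSub_of_prop hX, K0Basic.clSub_of_prop (h X hX)]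
  change QuotientAddGroup.mk (FreeAbelianGroup.map (SGA6.objMap F P Q h)
    (FreeAbelianGroup.of ⟨X, hX⟩)) = _
  rw [FreeAbelianGroup.map_of_apply]
  rfl

variable (n : ℕ) (S : Scheme.{u})

/-- The subgroup of `K(P^n_S)` generated by the classes of `O(d) ⊗ p^* E`, `0 ≤ d ≤ n`. -/
noncomputable def genSub : AddSubgroup (SGA6.Kvb (KRR.PY n S)) :=
  AddSubgroup.closure {x | ∃ (d : ℕ) (E : S.Modules), d ≤ n ∧ FlatMod.IsFinLocFree E ∧
    x = KRR.cl (KRR.PY n S) (KRR.twF n S (d : ℤ) ((Scheme.Modules.pullback (KRR.pr n S)).obj E))}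

theorem genSub_eq_top [CompactSpace ↥S] : genSub n S = ⊤ := by
  have h0 : Flat (CohB1.ProjSpaceOver.toBase n S) := ProjBase.flat_pr n S
  have h1 : ∀ i : ℕ, PreservesFiniteLimits (tw n S (i : ℤ)) := fun i => preservesFiniteLimits_tw n S i
  have h2 : ∀ i : ℕ, PreservesFiniteColimits (tw n S (i : ℤ)) :=
    fun i => preservesFiniteColimits_tw n S i
  have h3 : PreservesFiniteLimits (Scheme.Modules.pullback (CohB1.ProjSpaceOver.toBase n S)) :=
    Groth.Agent.PerfB.FlatPull.preservesFiniteLimits_pullback _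
  have hbij := Groth.Agent.S3197.result S n
    (fun M hM => Groth.Agent.PerfB.FlatPull.isFinLocFree_pullback _ hM)
    (fun i M hM => isFinLocFree_tw n S i M hM)
  rw [eq_top_iff]
  rintro y -
  obtain ⟨x, rfl⟩ := hbij.surjective y
  refine AddSubgroup.sum_mem _ fun d _ => ?_
  generalize x d = z
  induction z using K0Basic.induction_sub with
  | zero => rw [map_zero, map_zero]; exact AddSubgroup.zero_mem _
  | cl E hE =>
    rw [mapSub_clSub' _ _ _ _ hE,
      mapSub_clSub' _ _ _ _ (Groth.Agent.PerfB.FlatPull.isFinLocFree_pullback _ hE)]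
    exact AddSubgroup.subset_closure ⟨d, E, Nat.lt_succ_iff.1 d.2, hE, rfl⟩
  | neg x hx => rw [map_neg, map_neg]; exact AddSubgroup.neg_mem _ hx
  | add x y hx hy => rw [map_add, map_add]; exact AddSubgroup.add_mem _ hx hy

variable {n S}

/-- Additive maps out of `K(P^n_S)` are determined by their values on `O(d) ⊗ p^* E`, `0 ≤ d ≤ n`. -/
theorem hom_ext_proj [CompactSpace ↥S] {G : Type w} [AddCommGroup G]
    {f g : SGA6.Kvb (KRR.PY n S) →+ G}
    (h : ∀ (d : ℕ) (E : S.Modules), d ≤ n → FlatMod.IsFinLocFree E →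
      f (KRR.cl (KRR.PY n S) (KRR.twF n S (d : ℤ) ((Scheme.Modules.pullback (KRR.pr n S)).obj E))) =
      g (KRR.cl (KRR.PY n S) (KRR.twF n S (d : ℤ) ((Scheme.Modules.pullback (KRR.pr n S)).obj E)))) :
    f = g := by
  refine AddMonoidHom.ext fun x => ?_
  have hx : x ∈ genSub n S := by rw [genSub_eq_top]; trivial
  rw [genSub] at hx
  induction hx using AddSubgroup.closure_induction with
  | mem x hx =>
    obtain ⟨d, E, hd, hE, rfl⟩ := hx
    exact h d E hd hE
  | zero => rw [map_zero, map_zero]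
  | add x y _ _ hx hy => rw [map_add, map_add, hx, hy]
  | neg x _ hx => rw [map_neg, map_neg, hx]

/-- Additive maps out of a group `K` onto which `K(P^n_S)` surjects (e.g. a model of the λ-ring `K(P^n_S)`) are
determined by their values on `O(d) ⊗ p^* E`, `0 ≤ d ≤ n`. -/
theorem hom_ext_model [CompactSpace ↥S] {K : Type v} [AddCommGroup K] (φ : SGA6.Kvb (KRR.PY n S) →+ K)
    (hφ : Function.Surjective φ) {G : Type w} [AddCommGroup G] {f g : K →+ G}
    (h : ∀ (d : ℕ) (E : S.Modules), d ≤ n → FlatMod.IsFinLocFree E →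
      f (φ (KRR.cl (KRR.PY n S) (KRR.twF n S (d : ℤ) ((Scheme.Modules.pullback (KRR.pr n S)).obj E)))) =
      g (φ (KRR.cl (KRR.PY n S) (KRR.twF n S (d : ℤ) ((Scheme.Modules.pullback (KRR.pr n S)).obj E))))) :
    f = g := by
  have h1 : f.comp φ = g.comp φ := hom_ext_proj h
  refine AddMonoidHom.ext fun x => ?_
  obtain ⟨x, rfl⟩ := hφ x
  exact DFunLike.congr_fun h1 x

end Groth.Agent.Krr.H465.Gen
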