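import Groth.Prelude.Def_KRR
import Mathlib.Algebra.Homology.HomologicalComplexAbelian
import Mathlib.Algebra.Homology.QuasiIso
import Mathlib.Algebra.Homology.Additive
import Mathlib.Algebra.Homology.SingleHomology

/-!
# Transport of finite locally free resolutions along exact functors
-/

set_option autoImplicit false
universe u

open CategoryTheory CategoryTheory.Limits AlgebraicGeometry

namespace Groth.Agent.Krr.H465.LFMap

variable {X Y : Scheme.{u}}

/-- An exact functor preserving finite locally free modules carries a finite locally free resolution of `M` to one of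
`F M`. -/
theorem isLFRes_map (F : Y.Modules ⥤ X.Modules) [F.Additive] [PreservesFiniteLimits F]
    [PreservesFiniteColimits F] (hF : ∀ E : Y.Modules, FlatMod.IsFinLocFree E → FlatMod.IsFinLocFree (F.obj E))
    {M : Y.Modules} {n : ℕ} {L : ChainComplex Y.Modules ℕ} {π : L ⟶ (ChainComplex.single₀ Y.Modules).obj M}
    (h : KRR.IsLFRes M n L π) :
    KRR.IsLFRes (F.obj M) n ((F.mapHomologicalComplex _).obj L)
      ((F.mapHomologicalComplex _).map π ≫
        (HomologicalComplex.singleMapHomologicalComplex F (ComplexShape.down ℕ) 0).hom.app M) where
  finLocFree i := hF _ (h.finLocFree i)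
  isZero i hi := F.map_isZero (h.isZero i hi)
  quasiIso := by
    have h1 := h.quasiIso
    have h2 : QuasiIso ((F.mapHomologicalComplex (ComplexShape.down ℕ)).map π) := inferInstance
    infer_instance

/-- Transport of a resolution along an isomorphism of the resolved module. -/
theorem isLFRes_iso {M M' : Y.Modules} (e : M ≅ M') {n : ℕ} {L : ChainComplex Y.Modules ℕ}
    {π : L ⟶ (ChainComplex.single₀ Y.Modules).obj M} (h : KRR.IsLFRes M n L π) :
    KRR.IsLFRes M' n L (π ≫ (ChainComplex.single₀ Y.Modules).map e.hom) where
  finLocFree := h.finLocFree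
  isZero := h.isZero
  quasiIso := by
    have h1 := h.quasiIso
    infer_instance

end Groth.Agent.Krr.H465.LFMap
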