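import Groth.Prelude.Def_KRR
import Groth.Agent.Krr.H465.ProjBase
import Groth.Agent.Krr.H465.LFMap
import Groth.Agent.Krr.H465.Gen
import Groth.Agent.Sga67.PushTwist

/-!
# `i_K ∘ (p_X)_K = (p_Y)_K ∘ j_K`

`main`: the commutation, given that the sheaves `O(d) ⊗ p^* E` (`d ≥ 0`) are regular and that `i_* E` has a finite
locally free resolution.
-/

set_option autoImplicit false
universe v u

open CategoryTheory CategoryTheory.Limits AlgebraicGeometry

namespace Groth.Agent.Krr.H465.Main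

open Groth.Agent.Sga67 Groth.Agent.Sga67.TwistOver Groth.Agent.Krr.H465

variable (n : ℕ)

/-- `E ↦ O(d) ⊗ p^* E`. -/
noncomputable abbrev pt (S : Scheme.{u}) (d : ℤ) : S.Modules ⥤ (KRR.PY n S).Modules :=
  Scheme.Modules.pullback (KRR.pr n S) ⋙ tw n S d

theorem isFinLocFree_pt (S : Scheme.{u}) (d : ℤ) (E : S.Modules) (hE : FlatMod.IsFinLocFree E) :
    FlatMod.IsFinLocFree ((pt n S d).obj E) :=
  isFinLocFree_tw n S d _ (Groth.Agent.PerfB.FlatPull.isFinLocFree_pullback _ hE)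

/-- The value of `p_K` on `O(d) ⊗ p^* E`. -/
theorem pushPr_pt {S : Scheme.{u}} {KP KS : Type v} [CommRing KP] [CommRing KS]
    {φP : SGA6.Kvb (KRR.PY n S) →+ KP} {φS : SGA6.Kvb S →+ KS} {g : KP →+ KS}
    (hg : KRR.IsPushPr n S φP φS g) (d : ℕ) {E : S.Modules} (hE : FlatMod.IsFinLocFree E)
    (hreg : KRR.IsRegSheaf n S ((pt n S d).obj E)) :
    g (φP (KRR.cl (KRR.PY n S) ((pt n S d).obj E))) = (d + n).choose n • φS (KRR.cl S E) := by
  rw [hg _ (isFinLocFree_pt n S d E hE) hreg, ← map_nsmul]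
  exact congrArg φS (PushTwist.clSub_push_tw_pull n S d hE)

/-- A finite locally free resolution of `i_* E` gives one of `j_* (O(d) ⊗ p^* E)` with terms `O(d) ⊗ q^* L_k`. -/
theorem exists_isLFRes_pt {X Y : Scheme.{u}} (i : X ⟶ Y) [IsAffineHom i] (d : ℤ) {E : X.Modules}
    (hE : Coh.IsQCoh E) {m : ℕ} {L : ChainComplex Y.Modules ℕ}
    {π : L ⟶ (ChainComplex.single₀ Y.Modules).obj ((Scheme.Modules.pushforward i).obj E)}
    (h : KRR.IsLFRes ((Scheme.Modules.pushforward i).obj E) m L π) :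
    ∃ (L' : ChainComplex (KRR.PY n Y).Modules ℕ)
      (π' : L' ⟶ (ChainComplex.single₀ (KRR.PY n Y).Modules).obj
        ((Scheme.Modules.pushforward (KRR.projSpaceMap n i)).obj ((pt n X d).obj E))),
      KRR.IsLFRes ((Scheme.Modules.pushforward (KRR.projSpaceMap n i)).obj ((pt n X d).obj E)) m L' π' ∧
      ∀ k, L'.X k = (pt n Y d).obj (L.X k) := by
  have h0 : Flat (KRR.pr n Y) := ProjBase.flat_pr n Y
  have h1 : PreservesFiniteLimits (tw n Y d) := preservesFiniteLimits_tw n Y d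
  have h2 : PreservesFiniteColimits (tw n Y d) := preservesFiniteColimits_tw n Y d
  have h3 : PreservesFiniteLimits (Scheme.Modules.pullback (KRR.pr n Y)) :=
    Groth.Agent.PerfB.FlatPull.preservesFiniteLimits_pullback _
  obtain ⟨e⟩ := ProjBase.nonempty_twF_pull_push n i E hE d
  exact ⟨_, _, LFMap.isLFRes_iso e (LFMap.isLFRes_map (pt n Y d) (isFinLocFree_pt n Y d) h), fun _ => rfl⟩

theorem main {X Y : Scheme.{u}} (i : X ⟶ Y) [IsAffineHom i] [CompactSpace ↥X]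
    (hregX : ∀ (d : ℕ) (E : X.Modules), FlatMod.IsFinLocFree E → KRR.IsRegSheaf n X ((pt n X d).obj E))
    (hregY : ∀ (d : ℕ) (E : Y.Modules), FlatMod.IsFinLocFree E → KRR.IsRegSheaf n Y ((pt n Y d).obj E))
    (hres : ∀ E : X.Modules, FlatMod.IsFinLocFree E → KRR.HasLFRes ((Scheme.Modules.pushforward i).obj E))
    {KX KY KPX KPY : Type v} [CommRing KX] [CommRing KY] [CommRing KPX] [CommRing KPY]
    {φX : SGA6.Kvb X →+ KX} {φY : SGA6.Kvb Y →+ KY} {φPX : SGA6.Kvb (KRR.PY n X) →+ KPX}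
    {φPY : SGA6.Kvb (KRR.PY n Y) →+ KPY} (hφ : Function.Surjective φPX)
    (gi : KX →+ KY) (hgi : KRR.IsPushCl i φX φY gi)
    (gj : KPX →+ KPY) (hgj : KRR.IsPushCl (KRR.projSpaceMap n i) φPX φPY gj)
    (gX : KPX →+ KX) (hgX : KRR.IsPushPr n X φPX φX gX) (gY : KPY →+ KY) (hgY : KRR.IsPushPr n Y φPY φY gY) :
    gi.comp gX = gY.comp gj := by
  refine Gen.hom_ext_model φPX hφ fun d E _ hE => ?_
  change gi (gX (φPX (KRR.cl (KRR.PY n X) ((pt n X d).obj E)))) =
    gY (gj (φPX (KRR.cl (KRR.PY n X) ((pt n X d).obj E))))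
  obtain ⟨m, L, π, hL⟩ := hres E hE
  obtain ⟨L', π', hL', hLL'⟩ := exists_isLFRes_pt n i d
    (Groth.Agent.PerfA.QCohEpi.isQCoh_of_isFinLocFree hE) hL
  rw [pushPr_pt n hgX d hE (hregX d E hE), map_nsmul, hgi E hE m L π hL,
    hgj _ (isFinLocFree_pt n X d E hE) m L' π' hL', map_sum, Finset.smul_sum]
  refine Finset.sum_congr rfl fun k _ => ?_
  rw [map_zsmul, hLL' k, pushPr_pt n hgY d (hL.finLocFree k) (hregY d _ (hL.finLocFree k)), smul_comm]

end Groth.Agent.Krr.H465.Main
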