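import Groth.Prelude.Def_KRR
import Groth.Agent.Sga67.HypFields559
import Groth.Agent.CohqA.HDIZero
import Groth.Agent.CohqA.HOpen

/-!
# The sheaves `O(d) ⊗ p^* E`, `d ≥ 0`, are regular
-/

set_option autoImplicit false
universe u

open CategoryTheory CategoryTheory.Limits AlgebraicGeometry

namespace Groth.Agent.Krr.H465.RegPt

open Groth.Agent.Sga67 Groth.Agent.Sga67.TwistOver Groth.Agent.Sga67.TwistProj Groth.Agent.Ega3A.PChart
open Groth.Agent.Sga67.HypFields559

variable {r : ℕ} {S : Scheme.{u}} {ι : Type} {A : ι → Type u} [∀ i, CommRing (A i)]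
  {h : ∀ i, Spec (CommRingCat.of (A i)) ⟶ S} [∀ i, IsOpenImmersion (h i)]

theorem regF_pt (d : ℕ) (E : S.Modules) (hE : FlatMod.IsFinLocFree E) :
    RegF r A h ((tw r S d).obj ((Scheme.Modules.pullback (CohB1.ProjSpaceOver.toBase r S)).obj E)) := by
  have hf : FlatMod.IsFinLocFree ((Scheme.Modules.pullback (CohB1.ProjSpaceOver.toBase r S)).obj E) :=
    PerfB.FlatPull.isFinLocFree_pullback _ hE
  rw [regF_iff]
  refine ⟨isFinLocFree_tw r S d _ hf, fun i => ?_, fun n => ?_⟩
  · rw [reg_iff]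
    intro q hq hq'
    obtain ⟨e⟩ := nonempty_tw_tw r S (0 - q) d
      ((Scheme.Modules.pullback (CohB1.ProjSpaceOver.toBase r S)).obj E)
    have h1 := PullVan.subsingleton_HH_pullback r (h i) E hE (0 - q + d) q (Or.inl ⟨hq, by omega⟩)
    have h2 : Subsingleton (Coh.HH (CohB1.ProjSpace r (A i))
        (((tw r S (0 - q)).obj ((tw r S d).obj
          ((Scheme.Modules.pullback (CohB1.ProjSpaceOver.toBase r S)).obj E))).restrict
            (chart r (h i))) q) :=
      Fga.HShift.subsingleton_of_iso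
        ((Scheme.Modules.restrictFunctor (chart r (h i))).mapIso e.symm) q h1
    exact (hh_chart_iff _ (0 - q) i q).1 h2
  · obtain ⟨e⟩ := nonempty_tw_tw r S n d
      ((Scheme.Modules.pullback (CohB1.ProjSpaceOver.toBase r S)).obj E)
    exact Dcoh.FinLocFree.isFinLocFree_of_iso
      ((Scheme.Modules.pushforward (CohB1.ProjSpaceOver.toBase r S)).mapIso e).symm
      (PushTwist.isFinLocFree_push_tw_pull r S (n + d) hE)

theorem image_chart {V : S.Opens} (hV : IsAffineOpen V) :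
    (CohB1.ProjSpaceOver.toBase r S) ⁻¹ᵁ V = (chart r hV.fromSpec) ''ᵁ ⊤ := by
  rw [Scheme.Hom.image_top_eq_opensRange]
  refine le_antisymm (PushTwist.le_range hV) ?_
  rintro _ ⟨y, rfl⟩
  have h1 : y ∈ chart r hV.fromSpec ⁻¹ᵁ (CohB1.ProjSpaceOver.toBase r S ⁻¹ᵁ V) := by
    rw [PushTwist.preimage_chart hV]; trivial
  exact h1

/-- `O(d) ⊗ p^* E` is regular for `d ≥ 0`. -/
theorem isRegSheaf_pt (r : ℕ) (S : Scheme.{u}) (d : ℕ) (E : S.Modules) (hE : FlatMod.IsFinLocFree E) :
    KRR.IsRegSheaf r S ((tw r S d).obj ((Scheme.Modules.pullback (CohB1.ProjSpaceOver.toBase r S)).obj E)) := by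
  intro q hq
  refine Groth.Agent.CohqA.HDIZero.isZero_RpushAb (KRR.pr r S) _ q {V | IsAffineOpen V}
    S.isBasis_affineOpens fun V hV => ?_
  have hV' : IsAffineOpen V := hV
  have h1 := (regF_pt (r := r) (ι := Unit) (A := fun _ => Γ(S, V)) (h := fun _ => hV'.fromSpec) d E hE).2.1
    () q hq
  exact @Equiv.subsingleton _ _
    (Groth.Agent.CohqA.HOpen.HHEquiv (chart r hV'.fromSpec) _ _ (image_chart hV') q).toEquiv h1

end Groth.Agent.Krr.H465.RegPt
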